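import Groth.Agent.FibreLib.Basic
import Groth.Agent.ProjLib.DegOneChart

/-! Pullback squares of the degree-one charts. -/

set_option autoImplicit false
set_option linter.unusedSectionVars false

namespace Groth.Agent.FibreLib

open CategoryTheory CategoryTheory.Limits AlgebraicGeometry TopologicalSpace
open HomogeneousLocalization Graded
open scoped HomogeneousIdeal

universe u

variable {σ A : Type u} [CommRing A] [SetLike σ A] [AddSubgroupClass σ A] {𝒜 : ℕ → σ} [GradedRing 𝒜]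
  {τ B : Type u} [CommRing B] [SetLike τ B] [AddSubgroupClass τ B] {ℬ : ℕ → τ} [GradedRing ℬ]
  (ψ : 𝒜 →+*ᵍ ℬ) {z : B} (hz : z ∈ ℬ 1)
  (hbij : Function.Bijective (Polynomial.eval₂RingHom ψ.toRingHom z))

theorem exists_degOne_notMem (hgen : (𝒜₊).toIdeal ≤ Ideal.span (𝒜 1 : Set A)) (x : Proj 𝒜) :
    ∃ f ∈ 𝒜 1, f ∉ x.asHomogeneousIdeal := by
  by_contra h
  push Not at h
  exact x.not_irrelevant_le fun a ha ↦
    (Ideal.span_le (I := x.asHomogeneousIdeal.toIdeal)).mpr (fun b hb ↦ h b hb) (hgen ha)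

theorem mem_range_awayι_iff {d : ℕ} {f : A} (hf : f ∈ 𝒜 d) (hd : 0 < d) (x : Proj 𝒜) :
    x ∈ Set.range (Proj.awayι 𝒜 f hf hd) ↔ f ∉ x.asHomogeneousIdeal :=
  SetLike.ext_iff.mp (Proj.opensRange_awayι 𝒜 f hf hd) x

theorem domChart_opensRange {d : ℕ} (hd : 0 < d) {f : A} (hf : f ∈ 𝒜 d) :
    (ProjLib.domChart ψ hd hf (ψ f) rfl).opensRange =
      ProjLib.domMap ψ ⁻¹ᵁ (Proj.awayι 𝒜 f hf hd).opensRange := by
  rw [Proj.opensRange_awayι, ProjLib.domMap_preimage_basicOpen ψ hd hf]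
  ext y
  have h := mem_range_awayι_iff (map_mem ψ hf) hd ((RelCone.domOpen ψ).ι y)
  constructor
  · rintro ⟨w, rfl⟩
    refine h.mp ⟨w, ?_⟩
    rw [← Scheme.Hom.comp_apply, ProjLib.domChart_ι]
  · intro hy
    obtain ⟨w, hw⟩ := h.mpr hy
    refine ⟨w, (RelCone.domOpen ψ).ι.isOpenEmbedding.injective ?_⟩
    rw [← Scheme.Hom.comp_apply, ProjLib.domChart_ι]
    exact hw

/-- The chart of `G(ψ)` with polynomial coordinate ring. -/
noncomputable def polyChart {f : A} (hf : f ∈ 𝒜 1) :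
    Spec (CommRingCat.of (Polynomial (Away 𝒜 f))) ⟶ (RelCone.domOpen ψ).toScheme :=
  (Scheme.Spec.mapIso (ProjLib.polyEquivAway hf ψ hz hbij).toCommRingCatIso.op).inv ≫
    ProjLib.domChart ψ one_pos hf (ψ f) rfl

theorem isPullback_polyChart {f : A} (hf : f ∈ 𝒜 1) :
    IsPullback (polyChart ψ hz hbij hf)
      (Spec.map (CommRingCat.ofHom (Polynomial.C : Away 𝒜 f →+* Polynomial (Away 𝒜 f))))
      (ProjLib.domMap ψ) (Proj.awayι 𝒜 f hf one_pos) := by
  have : IsOpenImmersion (polyChart ψ hz hbij hf) := by unfold polyChart; infer_instance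
  refine isPullback_chart _ _ _ _ ?_ ?_
  · dsimp only [polyChart]; rw [Category.assoc, ProjLib.domChart_domMap, ProjLib.awayMapTo_rfl,
      ← ProjLib.polyEquivAway_comp_C hf ψ hz hbij, ← Category.assoc]
    congr 1
    simp only [Functor.mapIso_inv, Scheme.Spec_map, Iso.op_inv, Quiver.Hom.unop_op]
    rw [← Spec.map_comp]
    congr 1
    refine CommRingCat.hom_ext (RingHom.ext fun q ↦ ?_)
    exact (ProjLib.polyEquivAway hf ψ hz hbij).symm_apply_apply _
  · dsimp only [polyChart]; rw [Scheme.Hom.opensRange_comp_of_isIso, domChart_opensRange]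

end Groth.Agent.FibreLib
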