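import Mathlib

/-! Fibres computed on a chart with polynomial or Laurent coordinate ring. -/

set_option autoImplicit false

namespace Groth.Agent.FibreLib

open CategoryTheory CategoryTheory.Limits AlgebraicGeometry TopologicalSpace
open scoped AlgebraMonoidAlgebra

universe u

/-- If over an affine chart `Spec R ∋ x` the morphism is `Spec B → Spec R`, then the fibre at `x`
is `Spec` of the base change of `B`. -/
theorem exists_fibre_iso {X P : Scheme.{u}} (π : X ⟶ P) (x : P) {R B : CommRingCat.{u}}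
    (u : Spec R ⟶ P) [IsOpenImmersion u] (hx : x ∈ Set.range u) (φ : R ⟶ B) (v : Spec B ⟶ X)
    (sq : IsPullback v (Spec.map φ) π u) (B' : CommRingCat.{u}) (φ' : P.residueField x ⟶ B')
    (hB : ∀ ρ : R ⟶ P.residueField x, ∃ σ : B ⟶ B', IsPushout φ ρ σ φ') :
    ∃ e : pullback π (P.fromSpecResidueField x) ≅ Spec B',
      e.hom ≫ Spec.map φ' = pullback.snd π (P.fromSpecResidueField x) := by
  have hr : Set.range (P.fromSpecResidueField x) ⊆ Set.range u := by
    rw [Scheme.range_fromSpecResidueField]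
    exact Set.singleton_subset_iff.mpr hx
  let j := IsOpenImmersion.lift u (P.fromSpecResidueField x) hr
  obtain ⟨σ, hσ⟩ := hB (Spec.preimage j)
  have h1 : IsPullback (Spec.map σ) (Spec.map φ') (Spec.map φ) (Spec.map (Spec.preimage j)) :=
    isPullback_SpecMap_of_isPushout _ _ _ _ hσ
  have h2 := h1.paste_horiz sq
  rw [Spec.map_preimage, IsOpenImmersion.lift_fac] at h2
  exact ⟨h2.isoPullback.symm, h2.isoPullback_inv_snd⟩

theorem exists_fibre_iso_polynomial {X P : Scheme.{u}} (π : X ⟶ P) (x : P) {R : CommRingCat.{u}}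
    (u : Spec R ⟶ P) [IsOpenImmersion u] (hx : x ∈ Set.range u)
    (v : Spec (CommRingCat.of (Polynomial R)) ⟶ X)
    (sq : IsPullback v (Spec.map (CommRingCat.ofHom (Polynomial.C : R →+* Polynomial R))) π u) :
    ∃ e : pullback π (P.fromSpecResidueField x) ≅ Spec (CommRingCat.of (Polynomial (P.residueField x))),
      e.hom ≫ Spec.map (CommRingCat.ofHom (algebraMap (P.residueField x) (Polynomial (P.residueField x)))) =
        pullback.snd π (P.fromSpecResidueField x) := by
  refine exists_fibre_iso π x u hx _ v sq _ _ fun ρ ↦ ?_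
  algebraize [ρ.hom]
  let := (Polynomial.mapRingHom (algebraMap R (P.residueField x))).toAlgebra
  exact ⟨_, (CommRingCat.isPushout_of_isPushout R (P.residueField x) (Polynomial R)
    (Polynomial (P.residueField x))).flip⟩

theorem exists_fibre_iso_laurent {X P : Scheme.{u}} (π : X ⟶ P) (x : P) {R : CommRingCat.{u}}
    (u : Spec R ⟶ P) [IsOpenImmersion u] (hx : x ∈ Set.range u)
    (v : Spec (CommRingCat.of (LaurentPolynomial R)) ⟶ X)
    (sq : IsPullback v (Spec.map (CommRingCat.ofHom (LaurentPolynomial.C : R →+* LaurentPolynomial R))) π u) :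
    ∃ e : pullback π (P.fromSpecResidueField x) ≅ Spec (CommRingCat.of (LaurentPolynomial (P.residueField x))),
      e.hom ≫ Spec.map (CommRingCat.ofHom (algebraMap (P.residueField x) (LaurentPolynomial (P.residueField x)))) =
        pullback.snd π (P.fromSpecResidueField x) := by
  refine exists_fibre_iso π x u hx _ v sq _ _ fun ρ ↦ ?_
  algebraize [ρ.hom]
  exact ⟨_, (CommRingCat.isPushout_of_isPushout R (P.residueField x) (LaurentPolynomial R)
    (LaurentPolynomial (P.residueField x))).flip⟩

/-- The chart square. -/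
theorem isPullback_chart {X P : Scheme.{u}} (π : X ⟶ P) {R B : CommRingCat.{u}} (φ : R ⟶ B)
    (u : Spec R ⟶ P) (v : Spec B ⟶ X) [IsOpenImmersion u] [IsOpenImmersion v]
    (H : v ≫ π = Spec.map φ ≫ u) (H' : π ⁻¹ᵁ u.opensRange = v.opensRange) :
    IsPullback v (Spec.map φ) π u :=
  (IsOpenImmersion.isPullback (Spec.map φ) v u π H H').flip

/-- Finite type from charts. -/
theorem locallyOfFiniteType_quasiCompact_of_charts {X P : Scheme.{u}} (π : X ⟶ P) {K : Type u}
    (R B : K → CommRingCat.{u}) (φ : ∀ k, R k ⟶ B k) (u : ∀ k, Spec (R k) ⟶ P)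
    (v : ∀ k, Spec (B k) ⟶ X) (hu : ∀ k, IsOpenImmersion (u k)) (hcov : ∀ x, ∃ k, x ∈ Set.range (u k))
    (sq : ∀ k, IsPullback (v k) (Spec.map (φ k)) π (u k)) (hft : ∀ k, (φ k).hom.FiniteType) :
    LocallyOfFiniteType π ∧ QuasiCompact π := by
  have hc : ⨆ k, (u k).opensRange = ⊤ := by
    rw [_root_.eq_top_iff]
    intro x _
    obtain ⟨k, hk⟩ := hcov x
    exact Opens.mem_iSup.mpr ⟨k, hk⟩
  have key : ∀ (Q : MorphismProperty Scheme.{u}) [IsZariskiLocalAtTarget Q],
      (∀ k, Q (Spec.map (φ k))) → Q π := by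
    intro Q _ hQ
    refine IsZariskiLocalAtTarget.of_iSup_eq_top (fun k ↦ (u k).opensRange) hc fun k ↦ ?_
    have := hu k
    let a : Spec (R k) ≅ (u k).opensRange := (u k).isoOpensRange
    have h : IsPullback (v k) (Spec.map (φ k) ≫ a.hom) π (u k).opensRange.ι :=
      (sq k).of_iso (Iso.refl _) (Iso.refl _) a (Iso.refl _) (by simp) (by simp) (by simp) (by simp [a])
    let c := (isPullback_morphismRestrict π (u k).opensRange).flip.isoPullback ≪≫ h.isoPullback.symm
    have he : π ∣_ (u k).opensRange = c.hom ≫ Spec.map (φ k) ≫ a.hom := by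
      simp only [c, Iso.trans_hom, Iso.symm_hom, Category.assoc, h.isoPullback_inv_snd,
        IsPullback.isoPullback_hom_snd]
    rw [he, Q.cancel_left_of_respectsIso, Q.cancel_right_of_respectsIso]
    exact hQ k
  exact ⟨key @LocallyOfFiniteType fun k ↦ HasRingHomProperty.Spec_iff.mpr (hft k),
    key @QuasiCompact fun k ↦ inferInstance⟩

end Groth.Agent.FibreLib
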